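import Cfsg.Agent.H20.EqualDegree.Flat
import Cfsg.Agent.H20.SmallBlocks
import Cfsg.Agent.H19.AbelianFree

/-!
# The centre of a block with equal degrees

The centre of such a block is the corner of a flat idempotent, and the Brauer homomorphism of a
defect group is injective on it. With an abelian defect group this forces trivial inertia.
-/

set_option autoImplicit false
set_option linter.style.haveILetI false
set_option linter.unusedSectionVars false

open Cfsg Finset
open scoped MonoidAlgebra ComplexConjugate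

namespace H20.EqDeg

universe u

variable {M : Ideal AlgInt} [hMp : M.IsPrime] {G : Type u} [Group G] [Fintype G]
variable {p : ℕ} [hp : Fact p.Prime] [CharP (H20.k M) p] [IsAlgClosed (H20.k M)]
variable {B : Set (IrrCharacter G)} {D : Subgroup G}

local notation "OG" => MonoidAlgebra (H20.O M) G
local notation "kG" => MonoidAlgebra (H20.k M) G

variable (M) in
/-- The centre of the block. -/
noncomputable def centre (B : Set (IrrCharacter G)) : Submodule (H20.k M) (H20.k M)[G] where
  carrier := {z | (∀ a, z * a = a * z) ∧ z * H20.eRed M B = z}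
  add_mem' := fun ha hb => ⟨fun a => by rw [add_mul, mul_add, ha.1, hb.1],
    by rw [add_mul, ha.2, hb.2]⟩
  zero_mem' := ⟨fun a => by rw [zero_mul, mul_zero], zero_mul _⟩
  smul_mem' := fun c z hz => ⟨fun a => by rw [smul_mul_assoc, mul_smul_comm, hz.1],
    by rw [smul_mul_assoc, hz.2]⟩

theorem mem_centre {z : kG} :
    z ∈ centre M B ↔ (∀ a, z * a = a * z) ∧ z * H20.eRed M B = z := Iff.rfl

theorem isFix_top_of_centre {z : kG} (hz : z ∈ centre M B) : H23.IsFix ⊤ z :=
  H23.isFix_of_center (Subalgebra.mem_center_iff.2 fun a => (hz.1 a).symm) ⊤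

theorem mul_i_eq_zero (F : FlatIdem M B D) {z : kG} (hz : z ∈ centre M B) (h : z * F.i = 0) :
    z = 0 := by
  obtain ⟨n, x, y, hgen⟩ := F.gen
  rw [← hz.2, hgen, mul_sum]
  refine sum_eq_zero fun l _ => ?_
  rw [← mul_assoc, ← mul_assoc, hz.1 (x l), mul_assoc (x l), h, mul_zero, zero_mul]

theorem mul_i_mem (F : FlatIdem M B D) {z : kG} (hz : z ∈ centre M B) :
    z * F.i ∈ LocalAlg.corner (H20.k M) F.i :=
  (LocalAlg.mem_corner F.prim.idem).2
    ⟨by rw [← mul_assoc, ← hz.1, mul_assoc, F.prim.idem], by rw [mul_assoc, F.prim.idem]⟩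

/-- Every element of the corner comes from the centre. -/
theorem exists_central (hB : IsPBlock M B) (F : FlatIdem M B D) {s : kG}
    (hs : s ∈ LocalAlg.corner (H20.k M) F.i) : ∃ w ∈ centre M B, w * F.i = s := by
  obtain ⟨n, x, y, hgen⟩ := F.gen
  set e := H20.eRed M B with he
  obtain ⟨hs1, hs2⟩ := (LocalAlg.mem_corner F.prim.idem).1 hs
  have hec : ∀ a : kG, a * e = e * a := fun a => BasicAlg.cl_commute a
  have hie : F.i * e = F.i := F.inB
  have hse : s * e = s := by rw [← hs2, mul_assoc, hie]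
  set w := ∑ l, x l * s * y l with hw
  have hwe : w * e = w := by
    rw [hw, sum_mul]
    refine sum_congr rfl fun l _ => ?_
    rw [mul_assoc _ (y l) e, hec (y l), ← mul_assoc, mul_assoc (x l) s e, hse]
  have hew : e * w = w := by rw [← hec, hwe]
  have hwc : ∀ a, w * a = a * w := by
    intro a
    calc w * a = w * (a * e) := by rw [hec a, ← mul_assoc, hwe]
      _ = ∑ l, ∑ m, x l * (s * (F.i * (y l * a * x m) * F.i)) * y m := by
        conv_lhs => rw [hgen, hw, mul_sum, sum_mul]
        refine sum_congr rfl fun l _ => ?_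
        rw [mul_sum]
        refine sum_congr rfl fun m _ => ?_
        conv_lhs => rw [← hs2]
        simp only [mul_assoc]
      _ = ∑ l, ∑ m, x l * ((F.i * (y l * a * x m) * F.i) * s) * y m := by
        refine sum_congr rfl fun l _ => sum_congr rfl fun m _ => ?_
        rw [F.comm (b := F.i * (y l * a * x m) * F.i) hs ⟨_, rfl⟩]
      _ = e * a * w := by
        conv_rhs => rw [hgen, hw, sum_mul, sum_mul]
        refine sum_congr rfl fun l _ => ?_
        rw [mul_sum]
        refine sum_congr rfl fun m _ => ?_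
        conv_rhs => rw [← hs1]
        simp only [mul_assoc]
      _ = a * w := by rw [← hec, mul_assoc, hew]
  refine ⟨w, ⟨hwc, hwe⟩, ?_⟩
  calc w * F.i = F.i * w * F.i := by rw [← hwc, mul_assoc, F.prim.idem]
    _ = ∑ l, F.i * x l * F.i * s * (F.i * y l * F.i) := by
      rw [hw, mul_sum, sum_mul]
      refine sum_congr rfl fun l _ => ?_
      conv_lhs => rw [← hs2, ← hs1]
      simp only [mul_assoc]
    _ = s * ∑ l, F.i * x l * F.i * (F.i * y l * F.i) := by
      rw [mul_sum]
      refine sum_congr rfl fun l _ => ?_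
      rw [F.comm (a := F.i * x l * F.i) ⟨_, rfl⟩ hs]
      simp only [mul_assoc]
    _ = s * (F.i * e * F.i) := by
      congr 1
      rw [hgen, mul_sum, sum_mul]
      refine sum_congr rfl fun l _ => ?_
      simp only [mul_assoc]
      rw [← mul_assoc F.i F.i, F.prim.idem]
    _ = s := by rw [hie, F.prim.idem, hs2]

theorem finrank_centre (hB : IsPBlock M B) (F : FlatIdem M B D) :
    Module.finrank (H20.k M) (centre M B) = Nat.card D := by
  rw [← F.dim]
  let f : centre M B →ₗ[H20.k M] LocalAlg.corner (H20.k M) F.i :=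
    { toFun := fun z => ⟨z.1 * F.i, mul_i_mem F z.2⟩
      map_add' := fun a b => Subtype.ext (add_mul _ _ _)
      map_smul' := fun c a => Subtype.ext (smul_mul_assoc _ _ _) }
  refine (LinearEquiv.ofBijective f ⟨(injective_iff_map_eq_zero f).2 fun z hz => ?_,
    fun s => ?_⟩).finrank_eq
  · exact Subtype.ext (mul_i_eq_zero F z.2 (congrArg Subtype.val hz))
  · obtain ⟨w, hw, hws⟩ := exists_central hB F s.2
    exact ⟨⟨w, hw⟩, Subtype.ext hws⟩

/-- Central elements killed by the Brauer homomorphism have trace zero on the flat idempotent. -/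
theorem tau_eq_zero_of_Br (hM : IsPModular p M) (hB : IsPBlock M B) {d : ℕ}
    (hdeg : ∀ χ ∈ B, charDegree (χ : G → ℂ) = d) {f₀ : kG}
    (hmax : H23.IsMax p (H23.eB M B) D f₀) (F : FlatIdem M B D) {z : kG} (hz : z ∈ centre M B)
    (h0 : H23.Br D z * f₀ = 0) : SmallBlocks.tau (z * F.i) = 0 := by
  classical
  haveI : Fintype (ConjClasses G) := Fintype.ofFinite _
  have hEc := H23.cidem_eB (M := M) hB
  have hzf := isFix_top_of_centre hz
  obtain ⟨hdef, horb⟩ := hmax.exists_orbit p (H23.isBlk_eB hB)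
  set C := Subgroup.centralizer (D : Set G) with hC
  -- the Brauer image vanishes
  have hBr : H23.Br D z = 0 := by
    obtain ⟨S, hS, hsum⟩ := H23.exists_blocks (K := H20.k M) C
    have hEz : H23.Br D z * H23.Br D (H23.eB M B) = H23.Br D z := by
      rw [← H23.Br_mul hmax.1.1 (hzf.mono le_top) (hEc.fix.mono le_top)]
      exact congrArg (H23.Br D) hz.2
    rw [← hEz, ← mul_one (H23.Br D (H23.eB M B)), ← hsum, mul_sum, mul_sum]
    refine sum_eq_zero fun f hf => ?_
    have hfb := (hS f).1 hf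
    rw [← H23.CIdem.comm hfb.cidem.fix hfb.cidem.supp (H23.supp_Br D (H23.eB M B))]
    rcases hfb.prim _ (hEc.Br hmax.1.1 le_top (hEc.fix.mono le_top)) with h | h
    · rw [h, mul_zero]
    · obtain ⟨n, hn, hnf⟩ := horb f hfb h
      rw [h, ← hnf]
      have e1 : H23.cj n (H23.Br D z) = H23.Br D z := by
        rw [H23.Br_cj, H23.cjS_eq_self hn, H23.cj_eq_self_of_central hzf n]
      rw [← e1, ← map_mul, h0, map_zero]
  have hdef' : H23.DefLE p ⊤ D z := by
    have h := hdef.mul p hEc.fix hzf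
    have e1 : H23.eB M B * z = z := by
      rw [show H23.eB M B * z = z * H20.eRed M B from (BasicAlg.cl_commute z).symm]
      exact hz.2
    rwa [e1] at h
  -- the sum of the lift over a class
  obtain ⟨χ₀, hχ₀⟩ := H20.block_nonempty hB
  obtain ⟨hl, hreg⟩ := rank_one_of_equal_degree hM hB hdeg
  obtain ⟨a, ha⟩ := IsPGroup.iff_card.1 hmax.1.1
  have hd0 : (d : ℂ) ≠ 0 := by
    rw [← hdeg χ₀ hχ₀, ← H22.irr_one_eq_charDegree]
    exact H12.irr_apply_one_ne_zero χ₀
  have hclass : ∀ x : G, z.coeff x ≠ 0 →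
      (∑ g : G, if IsConj g x then F.i.coeff g⁻¹ else 0) = 0 := by
    intro x hx
    set N : ℕ := (univ.filter fun g : G => IsConj g x).card with hN
    have hθ : IsClassFunction G fun g : G => if IsConj g⁻¹ x then (1 : ℂ) else 0 := fun g y => by
      have hc : IsConj g⁻¹ (y * g * y⁻¹)⁻¹ := isConj_iff.2 ⟨y, by group⟩
      exact if_congr ⟨fun h => hc.trans h, fun h => hc.symm.trans h⟩ rfl rfl
    have hval : (∑ g : G, if IsConj g x then ((F.e.coeff g⁻¹ : H20.O M) : ℂ) else 0) =
        (Nat.card G : ℂ)⁻¹ * N * ∑ χ ∈ H22.blockFinset B, (χ : G → ℂ) x := by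
      rw [show (∑ g : G, if IsConj g x then ((F.e.coeff g⁻¹ : H20.O M) : ℂ) else 0) =
          ∑ g : G, (F.e.coeff g : ℂ) * if IsConj g⁻¹ x then (1 : ℂ) else 0 from
        Fintype.sum_equiv (Equiv.inv G) _ _ fun g => by simp, BasicAlg.sum_idem_classFunction F.e hθ,
        H22.blockFinset, mul_sum, sum_filter]
      refine sum_congr rfl fun χ _ => ?_
      by_cases hχ : χ ∈ B
      · rw [if_pos hχ, F.one χ hχ, mul_one, H12.classInner_def, mul_assoc]
        congr 1
        rw [← Fintype.sum_equiv (Equiv.inv G) (fun g => if IsConj g x then (χ : G → ℂ) x else 0)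
          _ (fun g => ?_), ← sum_filter, sum_const, nsmul_eq_mul]
        simp only [Equiv.inv_apply, inv_inv]
        split_ifs with h
        · obtain ⟨y, hy⟩ := isConj_iff.1 h
          rw [one_mul, H12.irr_inv, Complex.conj_conj, ← hy, H12.irr_isClassFunction χ g y]
        · rw [zero_mul]
      · rw [if_neg hχ, F.out χ hχ, mul_zero]
    have hred : (∑ g : G, if IsConj g x then F.i.coeff g⁻¹ else 0) =
        H20.redC M (∑ g : G, if IsConj g x then ((F.e.coeff g⁻¹ : H20.O M) : ℂ) else 0) := by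
      rw [show (∑ g : G, if IsConj g x then ((F.e.coeff g⁻¹ : H20.O M) : ℂ) else 0) =
          ((∑ g : G, if IsConj g x then F.e.coeff g⁻¹ else 0 : H20.O M) : ℂ) by
        rw [AddSubmonoidClass.coe_finsetSum]
        exact sum_congr rfl fun g _ => by split_ifs <;> simp, H20.redC_coe, map_sum]
      refine sum_congr rfl fun g _ => ?_
      rw [← F.red]
      split_ifs <;> simp [H20.coeff_rd]
    rw [hred, hval]
    by_cases hsing : p ∣ orderOf x
    · have h := H20.weak_orthogonality hM hB (x := (1 : G))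
        (by rw [orderOf_one]; exact hp.out.not_dvd_one) hsing
      rw [H22.finsum_mem_block, sum_congr rfl (g := fun χ : IrrCharacter G => (d : ℂ) * conj ((χ : G → ℂ) x))
        fun χ hχ => by rw [H22.irr_one_eq_charDegree, hdeg χ (H22.mem_blockFinset.1 hχ)],
        ← mul_sum, mul_eq_zero, ← map_sum, map_eq_zero] at h
      rw [h.resolve_left hd0, mul_zero, H20.redC_zero]
    -- a regular class of defect less than `D`
    set H := Subgroup.centralizer ({x} : Set G) with hH
    haveI : Fintype H := Fintype.ofFinite H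
    let S : Sylow p H := default
    set m := ordCompl[p] (Nat.card H) with hm
    set b := (Nat.card H).factorization p with hb
    have hSb : Nat.card ((S : Subgroup H).map H.subtype) = p ^ b := by
      rw [Nat.card_congr (((S : Subgroup H).equivMapOfInjective H.subtype
        H.subtype_injective).symm.toEquiv), S.card_eq_multiplicity]
    obtain ⟨y, -, hy⟩ := hdef' x hx _ (S.2.map H.subtype) le_top (Subgroup.map_subtype_le _)
    have hle : p ^ b ≤ p ^ a := by
      rw [← hSb, ← ha, ← H23.card_cjS y D]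
      exact Subgroup.card_le_of_le hy
    have hlt : b < a := by
      rcases lt_or_eq_of_le ((Nat.pow_le_pow_iff_right hp.out.one_lt).1 hle) with h | h
      · exact h
      exfalso
      have heq : (S : Subgroup H).map H.subtype = H23.cjS y D :=
        Subgroup.eq_of_le_of_card_ge hy (by rw [H23.card_cjS, hSb, ha, h])
      have hyx : y⁻¹ * x * y ∈ C := by
        refine Subgroup.mem_centralizer_iff.2 fun q hq => ?_
        have hmem : y * q * y⁻¹ ∈ H := by
          have : y * q * y⁻¹ ∈ H23.cjS y D := ⟨q, hq, rfl⟩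
          rw [← heq] at this
          exact Subgroup.map_subtype_le _ this
        have hc := Subgroup.mem_centralizer_singleton_iff.1 hmem
        calc q * (y⁻¹ * x * y) = y⁻¹ * (y * q * y⁻¹ * x) * y := by group
          _ = y⁻¹ * (x * (y * q * y⁻¹)) * y := by rw [hc]
          _ = y⁻¹ * x * y * q := by group
      apply hx
      have e1 := hzf y⁻¹ (Subgroup.mem_top _) x
      rw [inv_inv] at e1
      rw [← e1, ← H23.coeff_Br_of_mem z hyx, hBr]
      simp
    have hcardN : Nat.card G = N * (p ^ b * m) := by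
      rw [hm, hb, Nat.ordProj_mul_ordCompl_eq_self, hH,
        ← (Subgroup.centralizer ({x} : Set G)).index_mul_card, H20.index_centralizer_eq_card_class,
        hN, Nat.card_eq_fintype_card, Fintype.card_subtype]
      congr 2
      exact filter_congr fun g _ => isConj_comm
    have hm0 : ¬ p ∣ m := Nat.not_dvd_ordCompl hp.out Nat.card_pos.ne'
    obtain ⟨r, hr⟩ := Nat.exists_eq_add_of_lt hlt
    have hsumx : ∑ χ ∈ H22.blockFinset B, (χ : G → ℂ) x = (p : ℂ) ^ a * (χ₀ : G → ℂ) x := by
      rw [sum_congr rfl fun χ hχ => hreg χ (H22.mem_blockFinset.1 hχ) χ₀ hχ₀ x hsing, sum_const,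
        nsmul_eq_mul]
      congr 1
      rw [← Nat.cast_pow, ← ha, ← F.card, H22.blockFinset, ← Fintype.card_subtype,
        Nat.card_eq_fintype_card]
    rw [hsumx, hr]
    have hp0 : (p : ℂ) ≠ 0 := Nat.cast_ne_zero.2 hp.out.ne_zero
    have hmc : (m : ℂ) ≠ 0 := Nat.cast_ne_zero.2 fun h => hm0 (h ▸ dvd_zero p)
    have hN0 : (N : ℂ) ≠ 0 := Nat.cast_ne_zero.2 fun h => by
      have := Nat.card_pos (α := G)
      rw [hcardN, h, zero_mul] at this
      omega
    have heq : (Nat.card G : ℂ)⁻¹ * N * ((p : ℂ) ^ (b + r + 1) * (χ₀ : G → ℂ) x) =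
        (p : ℂ) * ((p : ℂ) ^ r * ((m : ℂ)⁻¹ * (χ₀ : G → ℂ) x)) := by
      rw [hcardN]
      push_cast
      rw [pow_add, pow_add, pow_one]
      field_simp
    have hmem : MemLocalRing M ((p : ℂ) ^ r * ((m : ℂ)⁻¹ * (χ₀ : G → ℂ) x)) := by
      rw [← Nat.cast_pow]
      exact H20.memRing_mul (H20.memRing_natCast _)
        (H20.memRing_mul (H20.inv_natCast_memRing hM hm0) (H20.memRing_irr χ₀ x))
    rw [heq, H20.redC_mul (H20.memRing_natCast _) hmem, H20.redC_natCast,
      CharP.cast_eq_zero (H20.k M) p, zero_mul]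
  -- sum over the classes
  show (z * F.i).coeff 1 = 0
  rw [H20.coeff_mul_group]
  simp only [mul_one]
  rw [← sum_fiberwise univ ConjClasses.mk]
  refine sum_eq_zero fun K _ => ?_
  obtain ⟨x, rfl⟩ := ConjClasses.mk_surjective K
  have hzx : ∀ g : G, IsConj g x → z.coeff g = z.coeff x := by
    intro g hg
    obtain ⟨y, hy⟩ := isConj_iff.1 hg
    rw [← hy, hzf y (Subgroup.mem_top _) g]
  rw [sum_congr rfl fun g hg => by
    rw [hzx g (ConjClasses.mk_eq_mk_iff_isConj.1 (mem_filter.1 hg).2)], ← mul_sum]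
  by_cases hx : z.coeff x = 0
  · rw [hx, zero_mul]
  · rw [sum_filter]
    simp only [ConjClasses.mk_eq_mk_iff_isConj]
    rw [hclass x hx, mul_zero]

/-- The Brauer homomorphism is injective on the centre. -/
theorem eq_zero_of_Br (hM : IsPModular p M) (hB : IsPBlock M B) {d : ℕ}
    (hdeg : ∀ χ ∈ B, charDegree (χ : G → ℂ) = d) {f₀ : kG}
    (hmax : H23.IsMax p (H23.eB M B) D f₀) (F : FlatIdem M B D) {z : kG} (hz : z ∈ centre M B)
    (h0 : H23.Br D z * f₀ = 0) : z = 0 := by
  classical
  by_contra hne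
  obtain ⟨g, hg⟩ := H23.exists_coeff_ne_zero (fun h => hne (mul_i_eq_zero F hz h))
  obtain ⟨h1, h2⟩ := (LocalAlg.mem_corner F.prim.idem).1 (mul_i_mem F hz)
  have hb : SmallBlocks.tau (z * F.i * (F.i * MonoidAlgebra.single g⁻¹ 1 * F.i)) ≠ 0 := by
    rw [← mul_assoc, ← mul_assoc, h2, SmallBlocks.tau_comm, ← mul_assoc, h1]
    show (z * F.i * MonoidAlgebra.single g⁻¹ (1 : H20.k M)).coeff 1 ≠ 0
    rw [H20.coeff_mul_single_one, inv_inv, one_mul]
    exact hg
  obtain ⟨w, hw, hwi⟩ := exists_central hB F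
    (s := F.i * MonoidAlgebra.single g⁻¹ 1 * F.i) ⟨_, rfl⟩
  have hzw : z * w ∈ centre M B :=
    ⟨fun a => by rw [mul_assoc, hw.1, ← mul_assoc, hz.1, mul_assoc], by rw [mul_assoc, hw.2]⟩
  have h0' : H23.Br D (z * w) * f₀ = 0 := by
    rw [show z * w = w * z from hz.1 w, H23.Br_mul hmax.1.1 ((isFix_top_of_centre hw).mono le_top)
      ((isFix_top_of_centre hz).mono le_top), mul_assoc, h0, mul_zero]
  refine hb ?_
  rw [show z * F.i * (F.i * MonoidAlgebra.single g⁻¹ 1 * F.i) = z * w * F.i by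
    have hiw : F.i * (F.i * MonoidAlgebra.single g⁻¹ (1 : H20.k M) * F.i) =
        F.i * MonoidAlgebra.single g⁻¹ 1 * F.i := by
      simp only [← mul_assoc, F.prim.idem]
    rw [mul_assoc z F.i, hiw, ← hwi, mul_assoc]]
  exact tau_eq_zero_of_Br hM hB hdeg hmax F hzw h0'

/-- Trivial inertia gives equal degrees. -/
theorem equal_of_stab_le [∀ R : Subgroup G, Fintype R] (hM : IsPModular p M) (hB : IsPBlock M B)
    (hab : ∀ a ∈ D, ∀ b ∈ D, a * b = b * a) {f₀ : kG}
    (hmax : H23.IsMax p (H23.eB M B) D f₀)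
    (hst : H23.stab D f₀ ≤ Subgroup.centralizer (D : Set G)) :
    ∃ d : ℕ, ∀ χ ∈ B, charDegree (χ : G → ℂ) = d := by
  classical
  have hD := H23.isDefectGroup_of_isMax hB hmax
  obtain ⟨c, hc, rfl⟩ := H23.exists_of_isPair hmax.1
  have hl := H19.AbelianNilpotent.blockRank_eq_one hM hB hD hab
    ((H19.AbelianLocal.isNilpotentBlock_iff_stab_le hB hab hc.2 hmax).2 hst)
  obtain ⟨t, hk, ht⟩ := H19.AbelianFree.card_formula hM hB hab hmax
    (fun g hg _ _ _ _ => hst hg)
  rw [Subgroup.relIndex_eq_one.2 hst, mul_one] at ht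
  rw [hl] at hk
  obtain ⟨φ, d, -, hval, hsum⟩ := Cfsg.Agent.S4675.result p M hM B hB D hD hl
  rw [H22.finsum_mem_block] at hsum
  have h1 : ¬ p ∣ orderOf (1 : G) := by rw [orderOf_one]; exact hp.out.not_dvd_one
  have hd1 : ∀ χ ∈ H22.blockFinset B, 1 ≤ d χ ^ 2 := by
    intro χ hχ
    refine Nat.one_le_pow _ _ (Nat.pos_of_ne_zero fun h => ?_)
    have e := hval χ (H22.mem_blockFinset.1 hχ) 1 h1
    rw [h, Nat.cast_zero, zero_mul] at e
    exact H12.irr_apply_one_ne_zero χ e
  have hcard : (H22.blockFinset B).card = Nat.card B := by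
    rw [H22.blockFinset, ← Fintype.card_subtype, Nat.card_eq_fintype_card]
  have heq : ∀ χ ∈ H22.blockFinset B, d χ ^ 2 = 1 := by
    intro χ hχ
    refine ((sum_eq_sum_iff_of_le hd1).1 ?_ χ hχ).symm
    rw [sum_const, smul_eq_mul, mul_one, hsum]
    omega
  obtain ⟨χ₀, hχ₀⟩ := H20.block_nonempty hB
  refine ⟨charDegree (χ₀ : G → ℂ), fun χ hχ => ?_⟩
  have e := fun (ψ : IrrCharacter G) (hψ : ψ ∈ B) => hval ψ hψ 1 h1
  have e1 := e χ hχ
  have e0 := e χ₀ hχ₀
  have hone : ∀ ψ ∈ B, d ψ = 1 := fun ψ hψ =>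
    (pow_eq_one_iff.1 (heq ψ (H22.mem_blockFinset.2 hψ))).resolve_right two_ne_zero
  rw [hone χ hχ, H22.irr_one_eq_charDegree] at e1
  rw [hone χ₀ hχ₀, H22.irr_one_eq_charDegree, ← e1] at e0
  exact_mod_cast e0.symm

end H20.EqDeg
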