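import Cfsg.Agent.H19.IBr
import Cfsg.Agent.H20.BasicCorner
import Cfsg.Agent.S4675

/-!
# Blocks all of whose characters have the same degree

Such a block has a single Brauer character, the common regular part of its members, and a
primitive idempotent at which every member takes the value one.
-/

set_option autoImplicit false
set_option linter.style.haveILetI false
set_option linter.unusedSectionVars false

open Cfsg Finset
open scoped MonoidAlgebra ComplexConjugate

namespace H20.EqDeg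

universe u

variable {M : Ideal AlgInt} [hMp : M.IsPrime] {G : Type u} [Group G] [Fintype G]
variable {p : ℕ} [hp : Fact p.Prime] [IsAlgClosed (H20.k M)]
variable {B : Set (IrrCharacter G)} {D : Subgroup G}

local notation "OG" => MonoidAlgebra (H20.O M) G
local notation "kG" => MonoidAlgebra (H20.k M) G

/-- Equal degrees force a single Brauer character equal to every regular part. -/
theorem rank_one_of_equal_degree (hM : IsPModular p M) (hB : IsPBlock M B) {d : ℕ}
    (hdeg : ∀ χ ∈ B, charDegree (χ : G → ℂ) = d) :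
    blockRank p B = 1 ∧
      ∀ χ ∈ B, ∀ ψ ∈ B, ∀ x : G, ¬ p ∣ orderOf x → (χ : G → ℂ) x = (ψ : G → ℂ) x := by
  classical
  obtain ⟨F⟩ := H19.PD.exists_frame (A := kG) (H20.k M)
  choose n hn0 hn using H19.IBr.exists_degree F hM hB
  have h1 : ¬ p ∣ orderOf (1 : G) := by rw [orderOf_one]; exact hp.out.not_dvd_one
  have hd0 : 0 < d := by
    obtain ⟨χ, hχ⟩ := H20.block_nonempty hB
    rw [← hdeg χ hχ]
    refine Nat.pos_of_ne_zero fun h => H12.irr_apply_one_ne_zero χ ?_
    rw [H22.irr_one_eq_charDegree, h, Nat.cast_zero]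
  have hdvd : ∀ c, d ∣ n c := fun c =>
    H19.IBr.dvd_degree F hM hB c (fun χ hχ => (hdeg χ hχ).symm.dvd) (hn c)
  -- each member has exactly one constituent, with multiplicity one
  have hone : ∀ χ ∈ B, ∃ c : H19.IBr.CB F B, H19.IBr.dnum F χ c.1 = 1 ∧
      ∀ c', c' ≠ c → H19.IBr.dnum F χ c'.1 = 0 := by
    intro χ hχ
    have h := congrFun (H19.IBr.pRegularPart_eq F hM hB hχ) 1
    simp only [Finset.sum_apply, Pi.smul_apply, smul_eq_mul, H22.pRegularPart_of_not_dvd _ h1,
      H22.irr_one_eq_charDegree, hdeg χ hχ, hn] at h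
    have h' : d = ∑ c : H19.IBr.CB F B, H19.IBr.dnum F χ c.1 * n c := by exact_mod_cast h
    obtain ⟨c, -, hc⟩ := exists_ne_zero_of_sum_ne_zero (h'.symm.trans_ne hd0.ne')
    have hle : d ≤ n c := Nat.le_of_dvd (hn0 c) (hdvd c)
    have hsplit := add_sum_erase univ (fun c => H19.IBr.dnum F χ c.1 * n c) (mem_univ c)
    rw [← h'] at hsplit
    have hd1 : H19.IBr.dnum F χ c.1 = 1 := by
      rcases Nat.lt_or_ge (H19.IBr.dnum F χ c.1) 2 with h2 | h2
      · have := left_ne_zero_of_mul hc
        omega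
      · have : 2 * d ≤ H19.IBr.dnum F χ c.1 * n c := Nat.mul_le_mul h2 hle
        omega
    refine ⟨c, hd1, fun c' hc' => ?_⟩
    rw [hd1, one_mul] at hsplit
    have h0 : ∑ c' ∈ univ.erase c, H19.IBr.dnum F χ c'.1 * n c' = 0 := by omega
    have := (sum_eq_zero_iff.1 h0) c' (mem_erase.2 ⟨hc', mem_univ _⟩)
    exact (mul_eq_zero.1 this).resolve_right (hn0 c').ne'
  have hall : ∀ c : H19.IBr.CB F B, ∀ χ ∈ B, H19.IBr.dnum F χ c.1 = 1 := by
    intro c
    have hex : ∃ χ ∈ B, H19.IBr.dnum F χ c.1 ≠ 0 := by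
      by_contra hne
      push Not at hne
      have := congrFun (H19.IBr.coord_unique F hM hB (x := fun c' => if c' = c then (1 : ℂ) else 0)
        (y := fun _ => 0) fun χ hχ => by simp [hne χ hχ]) c
      simp at this
    set A : Set (IrrCharacter G) := {χ | χ ∈ B ∧ H19.IBr.dnum F χ c.1 ≠ 0} with hA
    have h1' : ∀ χ ∈ A, H19.IBr.dnum F χ c.1 = 1 ∧
        pRegularPart p (χ : G → ℂ) = H19.IBr.phi F p B c := by
      rintro χ ⟨hχ, hne⟩
      obtain ⟨c₀, hc1, hc0⟩ := hone χ hχ
      obtain rfl : c = c₀ := by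
        by_contra h
        exact hne (hc0 c h)
      refine ⟨hc1, ?_⟩
      rw [H19.IBr.pRegularPart_eq F hM hB hχ, sum_eq_single c
        (fun c' _ h => by rw [hc0 c' h, Nat.cast_zero, zero_smul])
        (fun h => absurd (mem_univ _) h), hc1, Nat.cast_one, one_smul]
    have hsv : H20.SingVanish p A := by
      intro x y hx hy
      have hΦ := H19.IBr.Phi_singular F hM hB c hy
      simp only [H19.IBr.Phi, Finset.sum_apply, Pi.smul_apply, smul_eq_mul] at hΦ
      calc ∑ᶠ χ ∈ A, (χ : G → ℂ) x * conj ((χ : G → ℂ) y)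
          = ∑ χ ∈ H22.blockFinset B, H19.IBr.phi F p B c x *
              conj ((H19.IBr.dnum F χ c.1 : ℂ) * (χ : G → ℂ) y) := by
            rw [finsum_mem_eq_sum_ite, H22.blockFinset, sum_filter]
            refine sum_congr rfl fun χ _ => ?_
            by_cases hχ : χ ∈ A
            · obtain ⟨hd, hreg⟩ := h1' χ hχ
              rw [if_pos hχ, if_pos hχ.1, hd, Nat.cast_one, one_mul, ← hreg,
                H22.pRegularPart_of_not_dvd _ hx]
            · rw [if_neg hχ]
              split_ifs with hχB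
              · have : H19.IBr.dnum F χ c.1 = 0 := by
                  by_contra h
                  exact hχ ⟨hχB, h⟩
                simp [this]
              · rfl
        _ = 0 := by rw [← mul_sum, ← map_sum, hΦ, map_zero, mul_zero]
    obtain ⟨χ₀, hχ₀, hne⟩ := hex
    have hsub := H20.union_of_blocks (H20.memRing_blockCoeff_of_singVanish hM hsv)
      (show χ₀ ∈ A from ⟨hχ₀, hne⟩)
    rw [← H20.block_eq_blockOf hB hχ₀] at hsub
    exact fun χ hχ => (h1' χ (hsub hχ)).1
  obtain ⟨χ₀, hχ₀⟩ := H20.block_nonempty hB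
  obtain ⟨c₀, -, hc0⟩ := hone χ₀ hχ₀
  have huniq : ∀ c, c = c₀ := fun c => by
    by_contra h
    exact absurd (hc0 c h) (by rw [hall c χ₀ hχ₀]; exact one_ne_zero)
  have hcard : Fintype.card (H19.IBr.CB F B) = 1 := Fintype.card_eq_one_iff.2 ⟨c₀, huniq⟩
  refine ⟨by rw [H19.IBr.blockRank_eq F hM hB, hcard], fun χ hχ ψ hψ x hx => ?_⟩
  have e := fun (φ : IrrCharacter G) (hφ : φ ∈ B) =>
    congrFun (H19.IBr.pRegularPart_eq F hM hB hφ) x
  simp only [Finset.sum_apply, Pi.smul_apply, smul_eq_mul, H22.pRegularPart_of_not_dvd _ hx] at e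
  rw [e χ hχ, e ψ hψ]
  exact sum_congr rfl fun c _ => by rw [hall c χ hχ, hall c ψ hψ]

/-- The trace of a block element of `O[G]` of multiplicity at most one is multiplicative. -/
theorem chiLin_comm_corner (χ : IrrCharacter G) {e : OG} (he : e * e = e)
    (h1 : H23.chiLin χ e = 0 ∨ H23.chiLin χ e = 1) (a b w : OG) :
    H23.chiLin χ (e * a * e * (e * b * e) * w) = H23.chiLin χ (e * b * e * (e * a * e) * w) := by
  classical
  obtain ⟨m, ρ, -, hρ⟩ := χ.2
  have htr : ∀ a : OG, H23.chiLin χ a = LinearMap.trace ℂ _ (ρ.asAlgebraHom (H20.emb a)) := by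
    intro a
    have hsum : H20.emb a = ∑ x : G, MonoidAlgebra.single x ((a.coeff x : ℂ)) := by
      ext y
      simp only [MonoidAlgebra.coeff_sum, Finsupp.finsetSum_apply, MonoidAlgebra.coeff_single]
      rw [Finset.sum_eq_single y (fun c _ hc => Finsupp.single_eq_of_ne (Ne.symm hc)) (by simp),
        Finsupp.single_eq_same]
      rfl
    rw [hsum, map_sum, map_sum, H23.chiLin, ← hρ]
    refine Finset.sum_congr rfl fun x _ => ?_
    rw [Representation.asAlgebraHom_single, map_smul, smul_eq_mul]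
    rfl
  set R : OG →+* Module.End ℂ _ :=
    ρ.asAlgebraHom.toRingHom.comp (MonoidAlgebra.mapRingHom G (H20.O M).subtype) with hR
  have hRe : ∀ a, R a = ρ.asAlgebraHom (H20.emb a) := fun a => rfl
  set π := R e with hπ
  have hπ2 : π * π = π := by rw [hπ, ← map_mul, he]
  have hproj : LinearMap.IsProj (LinearMap.range π) π := ⟨fun v => ⟨v, rfl⟩, fun v ⟨u, hu⟩ => by
    rw [← hu]; exact LinearMap.congr_fun hπ2 u⟩
  have hrk : Module.finrank ℂ (LinearMap.range π) ≤ 1 := by
    have hdim := hproj.trace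
    rw [hπ, hRe, ← htr] at hdim
    rcases h1 with h1 | h1 <;> rw [h1] at hdim <;>
      · have : Module.finrank ℂ (LinearMap.range π) ≤ 1 := by
          have h := hdim.symm
          norm_cast at h
          rw [hπ, hRe]
          omega
        exact this
  obtain ⟨w0, hw0⟩ := finrank_le_one_iff.1 hrk
  have key : ∀ A : Module.End ℂ _, ∃ c : ℂ, π * A * π = c • π := by
    intro A
    obtain ⟨c, hc⟩ := hw0 ⟨π (A (w0 : _)), ⟨_, rfl⟩⟩
    refine ⟨c, LinearMap.ext fun v => ?_⟩
    obtain ⟨r, hr⟩ := hw0 ⟨π v, ⟨v, rfl⟩⟩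
    have hc' : c • (w0 : _) = π (A (w0 : _)) := congrArg Subtype.val hc
    have hr' : r • (w0 : _) = π v := congrArg Subtype.val hr
    show π (A (π v)) = c • π v
    rw [← hr', map_smul, map_smul, ← hc', smul_comm]
  obtain ⟨ca, hca⟩ := key (R a)
  obtain ⟨cb, hcb⟩ := key (R b)
  rw [htr, htr, ← hRe, ← hRe]
  simp only [map_mul, ← hπ, hca, hcb, smul_mul_assoc, mul_smul_comm, smul_smul, mul_comm ca cb]

/-- An element with vanishing traces is zero. -/
theorem eq_zero_of_chiLin (a : OG) (h : ∀ χ : IrrCharacter G, ∀ w : OG, H23.chiLin χ (a * w) = 0) :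
    a = 0 := by
  classical
  ext g
  have hθ : IsClassFunction G fun x : G => if x = 1 then (1 : ℂ) else 0 := fun x y => by
    simp only [conj_eq_one_iff]
  have hreg : ∀ x : G, (if x = 1 then (1 : ℂ) else 0) =
      (Nat.card G : ℂ)⁻¹ * ∑ χ : IrrCharacter G, conj ((χ : G → ℂ) 1) * (χ : G → ℂ) x := by
    intro x
    rw [H20.classFunction_eq_sum_apply hθ x, mul_sum]
    refine sum_congr rfl fun χ _ => ?_
    rw [H12.classInner_def, sum_eq_single (1 : G) (fun y _ hy => by rw [if_neg hy, zero_mul])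
      (fun h => absurd (mem_univ _) h), if_pos rfl, one_mul, mul_assoc]
  have key : ((a.coeff g : H20.O M) : ℂ) =
      (Nat.card G : ℂ)⁻¹ * ∑ χ : IrrCharacter G, conj ((χ : G → ℂ) 1) *
        H23.chiLin χ (a * H23.gO M g⁻¹) := by
    calc ((a.coeff g : H20.O M) : ℂ)
        = ∑ x : G, ((a * H23.gO M g⁻¹).coeff x : ℂ) * (if x = 1 then (1 : ℂ) else 0) := by
          rw [sum_eq_single (1 : G) (fun y _ hy => by rw [if_neg hy, mul_zero])
            (fun h => absurd (mem_univ _) h), if_pos rfl, mul_one, H20.coeff_mul_single_one,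
            inv_inv, one_mul]
      _ = _ := by
          simp only [hreg, H23.chiLin, mul_sum]
          rw [sum_comm]
          exact sum_congr rfl fun χ _ => sum_congr rfl fun x _ => by ring
  simp only [h, mul_zero, sum_const_zero] at key
  simpa using key

/-- An idempotent of the block at which every member takes the value one. -/
structure FlatIdem (M : Ideal AlgInt) [M.IsPrime] (B : Set (IrrCharacter G)) (D : Subgroup G) where
  i : MonoidAlgebra (H20.k M) G
  e : MonoidAlgebra (H20.O M) G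
  prim : H23.IsPrim i
  inB : i * H20.eRed M B = i
  idem : e * e = e
  red : H20.rd e = i
  one : ∀ χ ∈ B, H23.chiLin χ e = 1
  out : ∀ χ : IrrCharacter G, χ ∉ B → H23.chiLin χ e = 0
  dim : Module.finrank (H20.k M) (LocalAlg.corner (H20.k M) i) = Nat.card D
  card : Nat.card B = Nat.card D
  gen : ∃ (n : ℕ) (x y : Fin n → MonoidAlgebra (H20.k M) G),
    H20.eRed M B = ∑ l, x l * i * y l

theorem exists_flat (hM : IsPModular p M) (hB : IsPBlock M B) (hD : IsDefectGroup p M B D)
    {d : ℕ} (hdeg : ∀ χ ∈ B, charDegree (χ : G → ℂ) = d) : Nonempty (FlatIdem M B D) := by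
  classical
  obtain ⟨hl, hreg⟩ := rank_one_of_equal_degree hM hB hdeg
  obtain ⟨φ, dd, ⟨nn, hφ⟩, hval, hsum⟩ := Cfsg.Agent.S4675.result p M hM B hB D hD hl
  rw [H22.finsum_mem_block] at hsum
  have h1 : ¬ p ∣ orderOf (1 : G) := by rw [orderOf_one]; exact hp.out.not_dvd_one
  have hd0 : (d : ℂ) ≠ 0 := by
    obtain ⟨χ, hχ⟩ := H20.block_nonempty hB
    rw [← hdeg χ hχ, ← H22.irr_one_eq_charDegree]
    exact H12.irr_apply_one_ne_zero χ
  have hddone : ∀ χ ∈ B, dd χ = 1 := by
    intro χ hχ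
    have e1 := hval χ hχ 1 h1
    have e2 := hφ 1 h1
    rw [H22.finsum_mem_block] at e2
    simp only [H22.irr_one_eq_charDegree] at e1 e2
    rw [hdeg χ hχ] at e1
    rw [sum_congr rfl fun ψ hψ => by rw [hdeg ψ (H22.mem_blockFinset.1 hψ)], ← sum_mul] at e2
    rw [e2, ← mul_assoc] at e1
    have e3 : ((dd χ : ℤ) * ∑ ψ ∈ H22.blockFinset B, nn ψ : ℤ) = 1 := by
      have := mul_right_cancel₀ hd0 ((one_mul (d : ℂ)).trans e1)
      exact_mod_cast this.symm
    rcases Int.eq_one_or_neg_one_of_mul_eq_one e3 with h | h <;> omega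
  have hk : Nat.card B = Nat.card D := by
    rw [← hsum, sum_congr rfl (g := fun _ => 1) fun χ hχ => by
      rw [hddone χ (H22.mem_blockFinset.1 hχ), one_pow], sum_const, smul_eq_mul, mul_one,
      H22.blockFinset, ← Fintype.card_subtype, Nat.card_eq_fintype_card]
  obtain ⟨i, hi, hiB, ⟨c, hc0, hdim⟩, hgen⟩ := BasicAlg.exists_generator hM hB hD hl
  obtain ⟨e, he, hei, hout⟩ := BasicAlg.exists_lift_block hB hi.idem hiB
  choose r hr using fun χ : IrrCharacter G => BasicAlg.chiLin_idem_nat χ he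
  obtain ⟨F⟩ := H19.PD.exists_frame (A := kG) (H20.k M)
  obtain ⟨cl, hcl⟩ := F.exists_cls (k := H20.k M) hi
  have hT : ∀ χ, (r χ : ℂ) = (H19.IBr.dnum F χ cl : ℂ) := fun χ => by
    rw [← hr, ← H19.IBr.T_one_eq χ he hei,
      H19.IBr.T_one_eqv χ hi.idem (F.rep_prim cl).idem hcl, H19.IBr.dnum_spec]
  obtain ⟨χ₀, hχ₀⟩ := H20.block_nonempty hB
  have hconst : ∀ χ ∈ B, r χ = r χ₀ := by
    intro χ hχ
    have h := BasicAlg.chiLin_eq_of_regular hM he (H12.irr_isClassFunction χ)
      (H12.irr_isClassFunction χ₀) (hreg χ hχ χ₀ hχ₀)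
    have : (r χ : ℂ) = r χ₀ := by rw [← hr, ← hr]; exact h
    exact_mod_cast this
  have hr1 : r χ₀ = 1 := by
    have hcB : H19.IBr.InBlk F B cl := by
      by_contra hn
      have h0 : ∀ χ, r χ = 0 := fun χ => by
        by_cases hχ : χ ∈ B
        · have := hT χ
          rw [H19.IBr.dnum_eq_zero F hB fun h => hn (h.1 hχ), Nat.cast_zero] at this
          exact_mod_cast this
        · have := hout χ hχ
          rw [hr] at this
          exact_mod_cast this
      have := BasicAlg.finrank_corner_eq he hei hout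
      rw [hdim, sum_eq_zero fun χ _ => by rw [hr, h0, Nat.cast_zero, mul_zero]] at this
      have h2 : c ^ 2 * Nat.card D = 0 := by exact_mod_cast this
      exact absurd h2 (Nat.mul_ne_zero (pow_ne_zero 2 hc0) Nat.card_pos.ne')
    have hlc := H19.IBr.blockRank_eq F hM hB
    rw [hl] at hlc
    obtain ⟨c₀, hc₀⟩ := Fintype.card_eq_one_iff.1 hlc.symm
    have e := congrFun (H19.IBr.pRegularPart_eq F hM hB hχ₀) 1
    simp only [Finset.sum_apply, Pi.smul_apply, smul_eq_mul, H22.pRegularPart_of_not_dvd _ h1,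
      H22.irr_one_eq_charDegree, hdeg χ₀ hχ₀] at e
    obtain ⟨n, hn0, hn⟩ := H19.IBr.exists_degree F hM hB (⟨cl, hcB⟩ : H19.IBr.CB F B)
    rw [sum_eq_single (⟨cl, hcB⟩ : H19.IBr.CB F B)
      (fun b _ hb => absurd ((hc₀ b).trans (hc₀ _).symm) hb)
      (fun h => absurd (mem_univ _) h), hn] at e
    have hdn := H19.IBr.dvd_degree F hM hB _ (fun χ hχ => (hdeg χ hχ).symm.dvd) hn
    have e' : d = r χ₀ * n := by
      have : (d : ℂ) = (r χ₀ : ℂ) * n := by rw [hT]; exact e
      exact_mod_cast this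
    obtain ⟨m, rfl⟩ := hdn
    have hd' : 0 < d := Nat.pos_of_ne_zero fun h => hd0 (by rw [h, Nat.cast_zero])
    have e'' : r χ₀ * m = 1 := Nat.eq_of_mul_eq_mul_left hd' (by rw [mul_one]; linarith)
    exact Nat.eq_one_of_mul_eq_one_right e''
  have hone : ∀ χ ∈ B, H23.chiLin χ e = 1 := fun χ hχ => by
    rw [hr, hconst χ hχ, hr1, Nat.cast_one]
  refine ⟨⟨i, e, hi, hiB, he, hei, hone, hout, ?_, hk, hgen⟩⟩
  have h := BasicAlg.finrank_corner_eq he hei hout
  rw [sum_congr rfl (g := fun _ => (1 : ℂ)) fun χ hχ => by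
    rw [hone χ (H22.mem_blockFinset.1 hχ), mul_one], sum_const, nsmul_eq_mul, mul_one,
    H22.blockFinset, ← Fintype.card_subtype, ← Nat.card_eq_fintype_card] at h
  rw [← hk]
  exact_mod_cast h

/-- The corner of a flat idempotent is commutative. -/
theorem FlatIdem.comm (F : FlatIdem M B D) {a b : kG}
    (ha : a ∈ LocalAlg.corner (H20.k M) F.i) (hb : b ∈ LocalAlg.corner (H20.k M) F.i) :
    a * b = b * a := by
  classical
  obtain ⟨a', rfl⟩ := ha
  obtain ⟨b', rfl⟩ := hb
  have hsurj : ∀ z : kG, ∃ z' : OG, H20.rd z' = z := fun z => by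
    choose f hf using fun g : G => H20.red_surjective (M := M) (z.coeff g)
    exact ⟨H20.ofFun f, by ext g; rw [H20.coeff_rd, H20.coeff_ofFun, hf]⟩
  obtain ⟨A, rfl⟩ := hsurj a'
  obtain ⟨C, rfl⟩ := hsurj b'
  have h0 : F.e * A * F.e * (F.e * C * F.e) - F.e * C * F.e * (F.e * A * F.e) = 0 := by
    refine eq_zero_of_chiLin _ fun χ w => ?_
    have h01 : H23.chiLin χ F.e = 0 ∨ H23.chiLin χ F.e = 1 := by
      by_cases hχ : χ ∈ B
      · exact Or.inr (F.one χ hχ)
      · exact Or.inl (F.out χ hχ)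
    rw [sub_mul]
    have hsub : ∀ x y : OG, H23.chiLin χ (x - y) = H23.chiLin χ x - H23.chiLin χ y := fun x y => by
      have := H23.chiLin_add χ (x - y) y
      rw [sub_add_cancel] at this
      linear_combination -this
    rw [hsub, chiLin_comm_corner χ F.idem h01, sub_self]
  have h := congrArg H20.rd (sub_eq_zero.1 h0)
  simp only [H23.rd_mul, F.red] at h
  exact h

end H20.EqDeg
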