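import Cfsg.Agent.H20.EqualDegree.Centre

/-!
# Equal degrees and nilpotency for an abelian defect group
-/

set_option autoImplicit false
set_option linter.style.haveILetI false
set_option linter.unusedSectionVars false

open Cfsg Finset
open scoped MonoidAlgebra ComplexConjugate

namespace H20.EqDeg

universe u

variable {M : Ideal AlgInt} [hMp : M.IsPrime] {G : Type u} [Group G] [Fintype G]
variable {p : ℕ} [hp : Fact p.Prime] [CharP (H20.k M) p] [IsAlgClosed (H20.k M)]
variable [∀ R : Subgroup G, Fintype R]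
variable {B : Set (IrrCharacter G)} {D : Subgroup G}

/-- The block of the centraliser of a maximal pair has equal degrees. -/
theorem exists_local_flat (hM : IsPModular p M) (hB : IsPBlock M B)
    (hab : ∀ a ∈ D, ∀ b ∈ D, a * b = b * a)
    {c : Set (IrrCharacter (Subgroup.centralizer (D : Set G)))} (hc : IsPBlock M c)
    (hmax : H23.IsMax p (H23.eB M B) D (H23.eG M (Subgroup.centralizer (D : Set G)) c)) :
    Nonempty (FlatIdem M c (D.subgroupOf (Subgroup.centralizer (D : Set G)))) := by
  classical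
  haveI : ∀ R : Subgroup (Subgroup.centralizer (D : Set G)), Fintype R := fun R => Fintype.ofFinite R
  obtain ⟨f, hf⟩ := H19.AbelianLocal.exists_inducedIn hM hmax.1.1 hab le_rfl hc
  have hle := H19.AbelianLocal.le_of_inducedIn hM hmax.1.1 hab le_rfl hf
  obtain rfl : f = c := H23.eG_injective hf.2.1 hc
    (congrArg Prod.snd (hle.eq_of_eq p rfl))
  have hdc := H19.AbelianLocal.isDefectGroup_local hM hB hab hmax le_rfl hf
  set D' := D.subgroupOf (Subgroup.centralizer (D : Set G)) with hD'
  have htop : Subgroup.centralizer (D' : Set (Subgroup.centralizer (D : Set G))) = ⊤ := by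
    refine Subgroup.ext fun x => ⟨fun _ => Subgroup.mem_top x, fun _ =>
      Subgroup.mem_centralizer_iff.2 fun y hy => Subtype.ext ?_⟩
    exact Subgroup.mem_centralizer_iff.1 x.2 (y : G) hy
  obtain ⟨f₁, hmax₁⟩ := H23.exists_maxPair_defect (p := p) hc hM hdc
  obtain ⟨d, hd⟩ := equal_of_stab_le hM hc
    (fun a ha b hb => Subtype.ext (hab (a : G) ha (b : G) hb)) hmax₁ (htop ▸ le_top)
  exact exists_flat hM hc hdc hd

/-- Equal degrees force trivial inertia. -/
theorem stab_le_of_equal (hM : IsPModular p M) (hB : IsPBlock M B)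
    (hab : ∀ a ∈ D, ∀ b ∈ D, a * b = b * a) {f₀ : (H20.k M)[G]}
    (hmax : H23.IsMax p (H23.eB M B) D f₀) {d : ℕ}
    (hdeg : ∀ χ ∈ B, charDegree (χ : G → ℂ) = d) :
    H23.stab D f₀ ≤ Subgroup.centralizer (D : Set G) := by
  classical
  obtain ⟨c, hc, rfl⟩ := H23.exists_of_isPair hmax.1
  obtain ⟨F⟩ := exists_flat hM hB (H23.isDefectGroup_of_isMax hB hmax) hdeg
  obtain ⟨Fc⟩ := exists_local_flat hM hB hab hc.2 hmax
  have hf : H23.IsBlk (Subgroup.centralizer (D : Set G)) (H23.eG M (Subgroup.centralizer (D : Set G)) c) := hmax.1.2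
  have hDC : D ≤ (Subgroup.centralizer (D : Set G)) := H19.AbelianLocal.le_centralizer hab
  -- regular supports
  obtain ⟨g, hg⟩ := H23.exists_coeff_ne_zero hf.ne_zero
  have hsupp : ∀ h : G, (H23.eG M (Subgroup.centralizer (D : Set G)) c).coeff h ≠ 0 → h ∈ (Subgroup.centralizer (D : Set G)) ∧ ¬ p ∣ orderOf h := by
    intro h hh
    have hC' : h ∈ (Subgroup.centralizer (D : Set G)) := by
      by_contra h'
      exact hh (H23.supp_eG (Subgroup.centralizer (D : Set G)) c h h')
    refine ⟨hC', ?_⟩
    have := H20.regular_of_coeff_ne_zero hM hc.2 (g := (⟨h, hC'⟩ : (Subgroup.centralizer (D : Set G))))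
      (by rw [← H23.res_eG, H23.coeff_res]; exact hh)
    rwa [← Subgroup.orderOf_coe] at this
  have hone : ∀ y ∈ D, (H23.eG M (Subgroup.centralizer (D : Set G)) c).coeff (y * g) ≠ 0 → y = 1 := by
    intro y hy hne
    obtain ⟨hgC, hgr⟩ := hsupp g hg
    obtain ⟨-, hyr⟩ := hsupp _ hne
    have hcomm : Commute y g := Subgroup.mem_centralizer_iff.1 hgC y hy
    obtain ⟨j, hj⟩ := IsPGroup.iff_orderOf.1 hmax.1.1 ⟨y, hy⟩
    rw [← Subgroup.orderOf_coe] at hj
    change orderOf y = p ^ j at hj
    rcases j with _ | j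
    · rwa [pow_zero, orderOf_eq_one_iff] at hj
    exfalso
    apply hyr
    have hcop : (orderOf y).Coprime (orderOf g) := by
      rw [hj]
      exact Nat.Coprime.pow_left _ (hp.out.coprime_iff_not_dvd.2 hgr)
    rw [hcomm.orderOf_mul_eq_mul_orderOf_of_coprime hcop, hj, pow_succ]
    exact Dvd.dvd.mul_right (dvd_mul_left _ _) _
  have hycoe : ∀ (y : G) (h : G),
      (MonoidAlgebra.single y (1 : H20.k M) * (H23.eG M (Subgroup.centralizer (D : Set G)) c)).coeff h = (H23.eG M (Subgroup.centralizer (D : Set G)) c).coeff (y⁻¹ * h) := fun y h => by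
    rw [MonoidAlgebra.coeff_single_mul_apply, one_mul]
  -- elements of the centre of the local block
  have hin : ∀ {a : (H20.k M)[G]}, H23.Supp (Subgroup.centralizer (D : Set G)) a → H23.IsFix (Subgroup.centralizer (D : Set G)) a → a * (H23.eG M (Subgroup.centralizer (D : Set G)) c) = a →
      H23.res (Subgroup.centralizer (D : Set G)) a ∈ centre M c := by
    intro a has haf ha
    refine ⟨fun b => ((Subalgebra.mem_center_iff.1 haf.res) b).symm, ?_⟩
    rw [← H23.res_eG, ← H23.res_mul has (H23.supp_eG (Subgroup.centralizer (D : Set G)) c), ha]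
  have hfid : (H23.eG M (Subgroup.centralizer (D : Set G)) c) * (H23.eG M (Subgroup.centralizer (D : Set G)) c) = (H23.eG M (Subgroup.centralizer (D : Set G)) c) := hf.cidem.idem
  have hsingle : ∀ y ∈ D, H23.Supp (Subgroup.centralizer (D : Set G)) (MonoidAlgebra.single y (1 : H20.k M)) := fun y hy h hh => by
    rw [MonoidAlgebra.coeff_single, Finsupp.single_apply, if_neg]
    rintro rfl
    exact hh (hDC hy)
  let ψ : D → centre M c := fun y => ⟨H23.res (Subgroup.centralizer (D : Set G)) (MonoidAlgebra.single (y : G) 1 * (H23.eG M (Subgroup.centralizer (D : Set G)) c)), by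
    refine hin ((hsingle y y.2).mul hf.cidem.supp) (H23.IsFix.mul ?_ hf.cidem.fix)
      (by rw [mul_assoc, hfid])
    refine H23.isFix_iff_cj.2 fun x hx => ?_
    ext h
    rw [H23.coeff_cj, MonoidAlgebra.coeff_single, Finsupp.single_apply, Finsupp.single_apply]
    have hc' : Commute x (y : G) := (Subgroup.mem_centralizer_iff.1 hx y y.2).symm
    refine if_congr ⟨fun h' => ?_, fun h' => ?_⟩ rfl rfl
    · calc (y : G) = x * (y : G) * x⁻¹ := by rw [hc'.eq, mul_inv_cancel_right]
        _ = h := by rw [h']; group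
    · rw [← h', mul_assoc, ← hc'.eq, inv_mul_cancel_left]⟩
  have hψ : LinearIndependent (H20.k M) ψ := by
    rw [Fintype.linearIndependent_iff]
    intro a ha y₀
    have h := congrArg (fun z : (H20.k M)[(Subgroup.centralizer (D : Set G))] => z.coeff
      ⟨(y₀ : G) * g, mul_mem (hDC y₀.2) (hsupp g hg).1⟩) (congrArg Subtype.val ha)
    simp only [AddSubmonoidClass.coe_finsetSum, SetLike.val_smul, MonoidAlgebra.coeff_sum,
      Finsupp.finsetSum_apply, MonoidAlgebra.coeff_smul, Finsupp.smul_apply, smul_eq_mul,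
      ψ, H23.coeff_res, hycoe, ZeroMemClass.coe_zero, MonoidAlgebra.coeff_zero,
      Finsupp.zero_apply] at h
    rw [sum_eq_single y₀ (fun y _ hy => ?_) (fun h => absurd (mem_univ _) h),
      inv_mul_cancel_left] at h
    · exact (mul_eq_zero.1 h).resolve_right hg
    · by_contra hne
      have h1 := hone ((y : G)⁻¹ * y₀) (mul_mem (inv_mem y.2) y₀.2)
        (by rw [mul_assoc]; exact right_ne_zero_of_mul hne)
      exact hy (Subtype.ext (inv_mul_eq_one.1 h1))
  -- the Brauer map between the two centres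
  let L : centre M B →ₗ[H20.k M] centre M c :=
    { toFun := fun z => ⟨H23.res (Subgroup.centralizer (D : Set G)) (H23.Br D z.1 * (H23.eG M (Subgroup.centralizer (D : Set G)) c)), by
        refine hin ((H23.supp_Br D z.1).mul hf.cidem.supp) (H23.IsFix.mul ?_ hf.cidem.fix)
          (by rw [mul_assoc, hfid])
        exact (H23.isFix_Br (isFix_top_of_centre z.2)).mono
          (le_inf le_top (Subgroup.centralizer_le_normalizer _))⟩
      map_add' := fun a b => Subtype.ext (by simp [H23.Br_add, add_mul])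
      map_smul' := fun r a => Subtype.ext (by simp [H23.Br, map_smul, smul_mul_assoc]) }
  have hinj : Function.Injective L := (injective_iff_map_eq_zero L).2 fun z hz => by
    refine Subtype.ext (eq_zero_of_Br hM hB hdeg hmax F z.2 ?_)
    have h := congrArg (H23.emb (Subgroup.centralizer (D : Set G))) (congrArg Subtype.val hz)
    change H23.emb (Subgroup.centralizer (D : Set G)) (H23.res (Subgroup.centralizer (D : Set G)) (H23.Br D z.1 * (H23.eG M (Subgroup.centralizer (D : Set G)) c))) = H23.emb (Subgroup.centralizer (D : Set G)) 0 at h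
    rwa [H23.emb_res ((H23.supp_Br D z.1).mul hf.cidem.supp), map_zero] at h
  have hdimc : Module.finrank (H20.k M) (centre M c) = Nat.card D := by
    rw [finrank_centre hc.2 Fc]
    exact Nat.card_congr (Subgroup.subgroupOfEquivOfLe hDC).toEquiv
  have hsurj : Function.Surjective L :=
    (LinearMap.injective_iff_surjective_of_finrank_eq_finrank
      ((finrank_centre hB F).trans hdimc.symm)).1 hinj
  intro t ht
  refine Subgroup.mem_centralizer_iff.2 fun y hy => ?_
  obtain ⟨z, hz⟩ := hsurj (ψ ⟨y, hy⟩)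
  have h1 : H23.Br D z.1 * (H23.eG M (Subgroup.centralizer (D : Set G)) c) = MonoidAlgebra.single y 1 * (H23.eG M (Subgroup.centralizer (D : Set G)) c) := by
    have h := congrArg (H23.emb (Subgroup.centralizer (D : Set G))) (congrArg Subtype.val hz)
    change H23.emb (Subgroup.centralizer (D : Set G)) (H23.res (Subgroup.centralizer (D : Set G)) (H23.Br D z.1 * (H23.eG M (Subgroup.centralizer (D : Set G)) c))) =
      H23.emb (Subgroup.centralizer (D : Set G)) (H23.res (Subgroup.centralizer (D : Set G)) (MonoidAlgebra.single y 1 * (H23.eG M (Subgroup.centralizer (D : Set G)) c))) at h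
    rwa [H23.emb_res ((H23.supp_Br D z.1).mul hf.cidem.supp),
      H23.emb_res ((hsingle y hy).mul hf.cidem.supp)] at h
  have h2 : H23.cj t (H23.Br D z.1 * (H23.eG M (Subgroup.centralizer (D : Set G)) c)) = H23.Br D z.1 * (H23.eG M (Subgroup.centralizer (D : Set G)) c) := by
    rw [map_mul, H23.Br_cj, H23.cjS_eq_self ht.1,
      H23.cj_eq_self_of_central (isFix_top_of_centre z.2) t, ht.2]
  rw [h1, map_mul, ht.2] at h2
  have hy' : t * y * t⁻¹ ∈ D := (Subgroup.mem_normalizer_iff.1 ht.1 y).1 hy
  have h3 := congrArg (fun a : (H20.k M)[G] => a.coeff (y * g)) h2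
  have hsg : H23.cj t (MonoidAlgebra.single y (1 : H20.k M)) =
      MonoidAlgebra.single (t * y * t⁻¹) 1 := by simp [H23.cj]
  simp only [hsg, hycoe, inv_mul_cancel_left] at h3
  have h4 := hone ((t * y * t⁻¹)⁻¹ * y) (mul_mem (inv_mem hy') hy)
    (by rw [mul_assoc]; exact h3 ▸ hg)
  rw [inv_mul_eq_one, mul_inv_eq_iff_eq_mul] at h4
  exact h4.symm

/-- All degrees equal exactly when the block is nilpotent. -/
theorem equal_degree_iff_nilpotent (hM : IsPModular p M) (hB : IsPBlock M B)
    (hD : IsDefectGroup p M B D) (hab : ∀ a ∈ D, ∀ b ∈ D, a * b = b * a) :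
    (∃ d : ℕ, ∀ χ ∈ B, charDegree (χ : G → ℂ) = d) ↔ IsNilpotentBlock p M B := by
  obtain ⟨f₀, hmax⟩ := H23.exists_maxPair_defect (p := p) hB hM hD
  obtain ⟨c, hc, rfl⟩ := H23.exists_of_isPair hmax.1
  rw [H19.AbelianLocal.isNilpotentBlock_iff_stab_le hB hab hc.2 hmax]
  exact ⟨fun ⟨d, hd⟩ => stab_le_of_equal hM hB hab hmax hd,
    fun h => equal_of_stab_le hM hB hab hmax h⟩

end H20.EqDeg
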